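import Groth.Agent.S2670
import Groth.Agent.H05EGA4.NormalTensor
import Groth.Agent.H02CA.SmoothRegular
import Groth.Agent.H4Depth.Regular
import Groth.Agent.S9829

/-!
# Reduced and normal local rings along smooth algebras (EGA IV 17.5.7), no Noetherian hypotheses
-/

set_option autoImplicit false
set_option linter.style.haveILetI false
set_option backward.isDefEq.respectTransparency false
universe u
open scoped TensorProduct

namespace Groth.Agent.H06EGA17

theorem isNormalHom_of_smooth (A B : Type u) [CommRing A] [CommRing B] [Algebra A B] [Algebra.Smooth A B] :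
    EGA4.IsNormalHom A B := by
  refine ⟨inferInstance, fun p _ k' _ _ _ P _ => ?_⟩
  haveI : IsRegularRing (TensorProduct p.ResidueField k' (p.Fiber B)) :=
    Groth.Agent.H02CA.isRegularRing_of_smooth k' _
  haveI := IsRegularRing.isRegularLocalRing_localization P
  haveI := Groth.Agent.H4Depth.isDomain_of_isRegularLocalRing (Localization.AtPrime P)
  exact ⟨inferInstance, Groth.Agent.S9829.result (Localization.AtPrime P)⟩

theorem isNormalRing_of_smooth (R S : Type u) [CommRing R] [CommRing S] [Algebra R S] [Algebra.Smooth R S]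
    (h : EGA4.IsNormalRing R) : EGA4.IsNormalRing S := by
  obtain ⟨A₀, B₀, _, _, hfg, _, ⟨e⟩⟩ := Algebra.Smooth.exists_subalgebra_fg ℤ R S
  haveI : Algebra.FiniteType ℤ A₀ := (Subalgebra.fg_iff_finiteType A₀).mp hfg
  haveI : IsNoetherianRing A₀ := Algebra.FiniteType.isNoetherianRing ℤ A₀
  haveI : IsNoetherianRing B₀ := Algebra.FiniteType.isNoetherianRing A₀ B₀
  exact H05EGA4.isNormalRing_of_ringEquiv
    ((Algebra.TensorProduct.comm A₀ B₀ R).toRingEquiv.trans e.symm.toRingEquiv)
    (S2670.result A₀ B₀ (isNormalHom_of_smooth A₀ B₀) R h)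

theorem isNormalRing_of_isIntegrallyClosed (R : Type u) [CommRing R] [IsDomain R] [IsIntegrallyClosed R] :
    EGA4.IsNormalRing R := fun p _ => ⟨inferInstance,
    isIntegrallyClosed_of_isLocalization (Localization.AtPrime p) p.primeCompl p.primeCompl_le_nonZeroDivisors⟩

variable (A B : Type u) [CommRing A] [CommRing B] [Algebra A B] [Algebra.Smooth A B]
  (q : Ideal B) [q.IsPrime]

theorem disjoint_algebraMapSubmonoid :
    ∀ m ∈ Algebra.algebraMapSubmonoid B (q.comap (algebraMap A B)).primeCompl, m ∉ q := by
  rintro m ⟨a, ha, rfl⟩ hm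
  exact ha hm

theorem isReduced_atPrime_of_smooth (h : IsReduced (Localization.AtPrime (q.comap (algebraMap A B)))) :
    IsReduced (Localization.AtPrime q) := by
  let Ap := Localization.AtPrime (q.comap (algebraMap A B))
  letI : Algebra B (Ap ⊗[A] B) := Algebra.TensorProduct.rightAlgebra
  haveI : IsLocalization (Algebra.algebraMapSubmonoid B (q.comap (algebraMap A B)).primeCompl) (Ap ⊗[A] B) :=
    IsLocalization.tensorRight (S := B) (A := Ap) (q.comap (algebraMap A B)).primeCompl
  haveI : IsReduced (Ap ⊗[A] B) := H02CA.isReduced_of_smooth Ap _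
  let M := Algebra.algebraMapSubmonoid B (q.comap (algebraMap A B)).primeCompl
  have hd : Disjoint (M : Set B) (q : Set B) := Set.disjoint_left.mpr (disjoint_algebraMapSubmonoid A B q)
  let Q := q.map (algebraMap B (Ap ⊗[A] B))
  haveI : Q.IsPrime := IsLocalization.isPrime_of_isPrime_disjoint M _ q inferInstance hd
  haveI : IsLocalization (Q.comap (algebraMap B (Ap ⊗[A] B))).primeCompl (Localization.AtPrime Q) :=
    IsLocalization.isLocalization_isLocalization_atPrime_isLocalization M (Localization.AtPrime Q) Q
  haveI : IsLocalization q.primeCompl (Localization.AtPrime Q) := by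
    have hc : Q.comap (algebraMap B (Ap ⊗[A] B)) = q := IsLocalization.comap_map_of_isPrime_disjoint M _ inferInstance hd
    convert (inferInstance : IsLocalization.AtPrime (Localization.AtPrime Q) (Q.comap (algebraMap B (Ap ⊗[A] B)))) using 3
    rw [hc]
  haveI : IsReduced (Localization.AtPrime Q) := inferInstance
  let e := IsLocalization.algEquiv q.primeCompl (Localization.AtPrime q) (Localization.AtPrime Q)
  exact isReduced_of_injective e e.injective

theorem normal_atPrime_of_smooth (h : IsDomain (Localization.AtPrime (q.comap (algebraMap A B))))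
    (h' : IsIntegrallyClosed (Localization.AtPrime (q.comap (algebraMap A B)))) :
    IsDomain (Localization.AtPrime q) ∧ IsIntegrallyClosed (Localization.AtPrime q) := by
  let Ap := Localization.AtPrime (q.comap (algebraMap A B))
  letI : Algebra B (Ap ⊗[A] B) := Algebra.TensorProduct.rightAlgebra
  haveI : IsLocalization (Algebra.algebraMapSubmonoid B (q.comap (algebraMap A B)).primeCompl) (Ap ⊗[A] B) :=
    IsLocalization.tensorRight (S := B) (A := Ap) (q.comap (algebraMap A B)).primeCompl
  exact H05EGA4.normal_atPrime_of_isLocalization _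
    (isNormalRing_of_smooth Ap (Ap ⊗[A] B) (isNormalRing_of_isIntegrallyClosed Ap)) q
    (disjoint_algebraMapSubmonoid A B q)

omit [Algebra.Smooth A B] in
/-- Normality descends along faithfully flat maps. -/
theorem isIntegrallyClosed_of_faithfullyFlat [IsDomain A] [IsDomain B] [Module.FaithfullyFlat A B]
    [IsIntegrallyClosed B] : IsIntegrallyClosed A := by
  have hinj : Function.Injective (algebraMap A B) := FaithfulSMul.algebraMap_injective A B
  rw [isIntegrallyClosed_iff (FractionRing A)]
  intro x hx
  obtain ⟨a, c, hc, rfl⟩ := IsFractionRing.div_surjective A x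
  have hc0 : algebraMap A B c ≠ 0 := (map_ne_zero_iff _ hinj).mpr (nonZeroDivisors.ne_zero hc)
  let φ : FractionRing A →+* FractionRing B := IsFractionRing.lift (A := A)
    (g := (algebraMap B (FractionRing B)).comp (algebraMap A B)) ((IsFractionRing.injective B _).comp hinj)
  have hφ : ∀ r : A, φ (algebraMap A _ r) = algebraMap B (FractionRing B) (algebraMap A B r) :=
    fun r => IsFractionRing.lift_algebraMap _ r
  obtain ⟨pol, hm, hr⟩ := hx
  have h2 := congrArg φ hr
  rw [Polynomial.hom_eval₂, map_zero, map_div₀, hφ, hφ] at h2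
  have hcomp : φ.comp (algebraMap A _) = algebraMap A (FractionRing B) := by
    ext r
    rw [RingHom.comp_apply, hφ, ← IsScalarTower.algebraMap_apply]
  rw [hcomp] at h2
  obtain ⟨b, hb⟩ := (isIntegrallyClosed_iff (FractionRing B)).mp inferInstance
    (IsIntegral.tower_top (A := B) ⟨pol, hm, h2⟩)
  rw [eq_div_iff ((map_ne_zero_iff _ (IsFractionRing.injective B _)).mpr hc0), ← map_mul] at hb
  have hb' := IsFractionRing.injective B (FractionRing B) hb
  have hmem : algebraMap A B a ∈ (Ideal.span {c}).map (algebraMap A B) := by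
    rw [Ideal.map_span, Set.image_singleton, Ideal.mem_span_singleton]
    exact ⟨b, by rw [← hb', mul_comm]⟩
  rw [← Ideal.mem_comap, Ideal.comap_map_eq_self_of_faithfullyFlat, Ideal.mem_span_singleton] at hmem
  obtain ⟨d, rfl⟩ := hmem
  refine ⟨d, ?_⟩
  rw [map_mul, mul_div_cancel_left₀]
  exact (map_ne_zero_iff _ (IsFractionRing.injective A _)).mpr (nonZeroDivisors.ne_zero hc)

end Groth.Agent.H06EGA17
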