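import Groth.Agent.H06EGA17.LocalModel
import Groth.Agent.H06EGA17.SmoothRing
import Groth.Agent.H05EGA4.Regular
import Groth.Agent.H05EGA4.Regular2
import Groth.Agent.H8Props.FlatDepth

/-!
# Stalks of morphisms smooth at a point
-/

set_option autoImplicit false
set_option linter.style.haveILetI false
set_option backward.isDefEq.respectTransparency false
universe u
open CategoryTheory AlgebraicGeometry

namespace Groth.Agent.H06EGA17

variable {X Y : Scheme.{u}} (f : X ⟶ Y) [LocallyOfFinitePresentation f] (x : X) (hx : x ∈ f.smoothLocus)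

include hx in
theorem isReduced_stalk_iff :
    IsReduced (X.presheaf.stalk x) ↔ IsReduced (Y.presheaf.stalk (f.base x)) := by
  letI := (f.stalkMap x).hom.toAlgebra
  haveI : IsLocalHom (algebraMap (Y.presheaf.stalk (f.base x)) (X.presheaf.stalk x)) :=
    inferInstanceAs (IsLocalHom (f.stalkMap x).hom)
  haveI : Module.Flat (Y.presheaf.stalk (f.base x)) (X.presheaf.stalk x) :=
    flat_stalkMap_of_mem_smoothLocus f x hx
  haveI := Module.FaithfullyFlat.of_flat_of_isLocalHom (A := Y.presheaf.stalk (f.base x)) (B := X.presheaf.stalk x)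
  refine ⟨fun h => isReduced_of_injective (algebraMap (Y.presheaf.stalk (f.base x)) (X.presheaf.stalk x))
    (FaithfulSMul.algebraMap_injective _ _), fun h => ?_⟩
  obtain ⟨A, B, _, _, _, _, -, q, _, eY, eX, -⟩ := exists_localModel f x hx
  haveI : IsReduced (Localization.AtPrime (q.comap (algebraMap A B))) := isReduced_of_injective eY eY.injective
  haveI := isReduced_atPrime_of_smooth A B q inferInstance
  exact isReduced_of_injective eX.symm eX.symm.injective

include hx in
theorem isNormal_stalk_iff :
    (IsDomain (X.presheaf.stalk x) ∧ IsIntegrallyClosed (X.presheaf.stalk x)) ↔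
      (IsDomain (Y.presheaf.stalk (f.base x)) ∧ IsIntegrallyClosed (Y.presheaf.stalk (f.base x))) := by
  letI := (f.stalkMap x).hom.toAlgebra
  haveI : IsLocalHom (algebraMap (Y.presheaf.stalk (f.base x)) (X.presheaf.stalk x)) :=
    inferInstanceAs (IsLocalHom (f.stalkMap x).hom)
  haveI : Module.Flat (Y.presheaf.stalk (f.base x)) (X.presheaf.stalk x) :=
    flat_stalkMap_of_mem_smoothLocus f x hx
  haveI := Module.FaithfullyFlat.of_flat_of_isLocalHom (A := Y.presheaf.stalk (f.base x)) (B := X.presheaf.stalk x)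
  constructor
  · rintro ⟨h1, h2⟩
    haveI : IsDomain (Y.presheaf.stalk (f.base x)) :=
      (FaithfulSMul.algebraMap_injective (Y.presheaf.stalk (f.base x)) (X.presheaf.stalk x)).isDomain _
    exact ⟨inferInstance, isIntegrallyClosed_of_faithfullyFlat _ (X.presheaf.stalk x)⟩
  · rintro ⟨h1, h2⟩
    obtain ⟨A, B, _, _, _, _, -, q, _, eY, eX, -⟩ := exists_localModel f x hx
    obtain ⟨h3, h4⟩ := normal_atPrime_of_smooth A B q (eY.toMulEquiv.isDomain _) (IsIntegrallyClosed.of_equiv eY.symm)
    exact ⟨eX.symm.toMulEquiv.isDomain _, IsIntegrallyClosed.of_equiv eX⟩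

include hx in
theorem isRegularLocalRing_stalk_iff [IsLocallyNoetherian Y] [IsLocallyNoetherian X] :
    IsRegularLocalRing (X.presheaf.stalk x) ↔ IsRegularLocalRing (Y.presheaf.stalk (f.base x)) := by
  letI := (f.stalkMap x).hom.toAlgebra
  haveI : IsLocalHom (algebraMap (Y.presheaf.stalk (f.base x)) (X.presheaf.stalk x)) :=
    inferInstanceAs (IsLocalHom (f.stalkMap x).hom)
  haveI : Module.Flat (Y.presheaf.stalk (f.base x)) (X.presheaf.stalk x) :=
    flat_stalkMap_of_mem_smoothLocus f x hx
  constructor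
  · intro h
    exact H05EGA4.isRegularLocalRing_of_flat (B := X.presheaf.stalk x)
  · intro h
    haveI := isRegularLocalRing_fibre f x hx
    exact H05EGA4.isRegularLocalRing_of_flat_of_fibre (Y.presheaf.stalk (f.base x)) (X.presheaf.stalk x)

include hx in
theorem ringKrullDim_stalk [IsLocallyNoetherian Y] [IsLocallyNoetherian X] :
    ringKrullDim (X.presheaf.stalk x) = ringKrullDim (Y.presheaf.stalk (f.base x)) +
      ringKrullDim (X.presheaf.stalk x ⧸
        (IsLocalRing.maximalIdeal (Y.presheaf.stalk (f.base x))).map (f.stalkMap x).hom) := by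
  letI := (f.stalkMap x).hom.toAlgebra
  haveI : IsLocalHom (algebraMap (Y.presheaf.stalk (f.base x)) (X.presheaf.stalk x)) :=
    inferInstanceAs (IsLocalHom (f.stalkMap x).hom)
  haveI : Module.Flat (Y.presheaf.stalk (f.base x)) (X.presheaf.stalk x) :=
    flat_stalkMap_of_mem_smoothLocus f x hx
  exact H8Props.FlatDepth.ringKrullDim_eq_add _ _

include hx in
theorem codepth_stalk [IsLocallyNoetherian Y] [IsLocallyNoetherian X] :
    ringKrullDim (X.presheaf.stalk x) +
        ((LocCoh.depth (Y.presheaf.stalk (f.base x)) (Y.presheaf.stalk (f.base x)) : ℕ∞) : WithBot ℕ∞) =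
      ringKrullDim (Y.presheaf.stalk (f.base x)) +
        ((LocCoh.depth (X.presheaf.stalk x) (X.presheaf.stalk x) : ℕ∞) : WithBot ℕ∞) := by
  letI := (f.stalkMap x).hom.toAlgebra
  haveI : IsLocalHom (algebraMap (Y.presheaf.stalk (f.base x)) (X.presheaf.stalk x)) :=
    inferInstanceAs (IsLocalHom (f.stalkMap x).hom)
  haveI : Module.Flat (Y.presheaf.stalk (f.base x)) (X.presheaf.stalk x) :=
    flat_stalkMap_of_mem_smoothLocus f x hx
  let C := X.presheaf.stalk x ⧸ (IsLocalRing.maximalIdeal (Y.presheaf.stalk (f.base x))).map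
    (algebraMap (Y.presheaf.stalk (f.base x)) (X.presheaf.stalk x))
  haveI : IsRegularLocalRing C := isRegularLocalRing_fibre f x hx
  rw [H8Props.FlatDepth.ringKrullDim_eq_add (Y.presheaf.stalk (f.base x)) (X.presheaf.stalk x),
    H8Props.FlatDepth.depth_eq_add (Y.presheaf.stalk (f.base x)) (X.presheaf.stalk x), WithBot.coe_add,
    H4Depth.depth_self_eq_ringKrullDim_of_regular C, add_assoc]
  exact congrArg _ (add_comm _ _)

end Groth.Agent.H06EGA17
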