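import Groth.Agent.H17.LocusBC
import Groth.Agent.H02CA.SmoothRegular
import Groth.Agent.H05EGA4.NormalAscent

/-!
# Local models of morphisms smooth at a point
-/

set_option autoImplicit false
set_option linter.style.haveILetI false
set_option backward.isDefEq.respectTransparency false
universe u
open CategoryTheory AlgebraicGeometry

namespace Groth.Agent.H06EGA17

variable {X Y : Scheme.{u}} (f : X ⟶ Y)

/-- A smooth chart at a point, with the stalk map as a localisation. -/
theorem exists_localModel [LocallyOfFinitePresentation f] (x : X) (hx : x ∈ f.smoothLocus) :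
    ∃ (A B : Type u) (_ : CommRing A) (_ : CommRing B) (_ : Algebra A B) (_ : Algebra.Smooth A B)
      (_ : IsLocallyNoetherian Y → IsNoetherianRing A) (q : Ideal B) (_ : q.IsPrime)
      (eY : Localization.AtPrime (q.comap (algebraMap A B)) ≃+* Y.presheaf.stalk (f.base x))
      (eX : Localization.AtPrime q ≃+* X.presheaf.stalk x),
      ∀ a, (f.stalkMap x).hom (eY a) = eX (Localization.localRingHom _ q (algebraMap A B) rfl a) := by
  obtain ⟨U, hU, V, hV, hVU, hxV, H⟩ := AlgebraicGeometry.exists_smooth_of_formallySmooth_stalk f x hx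
  algebraize [(f.appLE U V hVU).hom]
  let e := IsAffineOpen.arrowStalkMapIso f U hU V hV hVU hxV
  refine ⟨Γ(Y, U), Γ(X, V), inferInstance, inferInstance, inferInstance, inferInstance,
    fun _ => IsLocallyNoetherian.component_noetherian ⟨U, hU⟩,
    (hV.primeIdealOf ⟨x, hxV⟩).asIdeal, inferInstance, ?_⟩
  suffices key : ∀ (p : Ideal Γ(Y, U)) [p.IsPrime]
      (hp : p = (hV.primeIdealOf ⟨x, hxV⟩).asIdeal.comap (algebraMap Γ(Y, U) Γ(X, V))),
      (Arrow.mk (f.stalkMap x) ≅ Arrow.mk (CommRingCat.ofHom
        (Localization.localRingHom p (hV.primeIdealOf ⟨x, hxV⟩).asIdeal (algebraMap Γ(Y, U) Γ(X, V)) hp))) →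
      ∃ (eY : Localization.AtPrime ((hV.primeIdealOf ⟨x, hxV⟩).asIdeal.comap (algebraMap Γ(Y, U) Γ(X, V))) ≃+*
          Y.presheaf.stalk (f.base x))
        (eX : Localization.AtPrime (hV.primeIdealOf ⟨x, hxV⟩).asIdeal ≃+* X.presheaf.stalk x),
        ∀ a, (f.stalkMap x).hom (eY a) = eX (Localization.localRingHom _ _ (algebraMap Γ(Y, U) Γ(X, V)) rfl a) from
    key _ _ e
  intro p _ hp e
  subst hp
  refine ⟨(Arrow.leftFunc.mapIso e).symm.commRingCatIsoToRingEquiv, (Arrow.rightFunc.mapIso e).symm.commRingCatIsoToRingEquiv, fun a => ?_⟩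
  exact ConcreteCategory.congr_hom (Arrow.w e.inv) a

theorem flat_stalkMap_of_mem_smoothLocus [LocallyOfFinitePresentation f] (x : X) (hx : x ∈ f.smoothLocus) :
    (f.stalkMap x).hom.Flat := by
  obtain ⟨U, hxU, hU⟩ := (H17.LocusBC.mem_smoothLocus_iff_exists f x).1 hx
  have h := (Flat.stalkMap (U.ι ≫ f) ⟨x, hxU⟩)
  rw [Scheme.Hom.stalkMap_comp] at h
  exact RingHom.Flat.respectsIso.cancel_right_isIso (f.stalkMap x) (U.ι.stalkMap ⟨x, hxU⟩) |>.mp h

theorem mem_smoothLocus_of_nhd [LocallyOfFiniteType f] [IsLocallyNoetherian Y] (x : X)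
    (hx : ∃ U : X.Opens, x ∈ U ∧ Smooth (U.ι ≫ f)) :
    ∃ _ : LocallyOfFinitePresentation f, x ∈ f.smoothLocus := by
  haveI : LocallyOfFinitePresentation f := by
    rw [HasRingHomProperty.iff_appLE (P := @LocallyOfFinitePresentation)]
    intro U V e
    have : IsNoetherianRing Γ(Y, U.1) := IsLocallyNoetherian.component_noetherian U
    exact RingHom.FinitePresentation.of_finiteType.1
      (HasRingHomProperty.appLE @LocallyOfFiniteType f ‹_› U V e)
  exact ⟨inferInstance, (H17.LocusBC.mem_smoothLocus_iff_exists f x).2 hx⟩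

/-- The fibre local ring of a morphism smooth at a point is regular. -/
theorem isRegularLocalRing_fibre [LocallyOfFinitePresentation f] (x : X) (hx : x ∈ f.smoothLocus) :
    IsRegularLocalRing (X.presheaf.stalk x ⧸
      (IsLocalRing.maximalIdeal (Y.presheaf.stalk (f.base x))).map (f.stalkMap x).hom) := by
  obtain ⟨A, B, _, _, _, _, -, q, _, eY, eX, he⟩ := exists_localModel f x hx
  have h := H05EGA4.isRegularLocalRing_fibLocRing_of_smooth A B q
  have hcomp : (f.stalkMap x).hom.comp ((eY.toRingHom).comp (algebraMap A _)) =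
      eX.toRingHom.comp (algebraMap A (Localization.AtPrime q)) := RingHom.ext fun a =>
    (he (algebraMap A _ a)).trans (congrArg eX
      ((Localization.localRingHom_to_map _ q (algebraMap A B) rfl a).trans
        (IsScalarTower.algebraMap_apply A B (Localization.AtPrime q) a).symm))
  have hI : (IsLocalRing.maximalIdeal (Y.presheaf.stalk (f.base x))).map (f.stalkMap x).hom =
      ((q.comap (algebraMap A B)).map (algebraMap A (Localization.AtPrime q))).map eX.toRingHom := by
    have h1 : ((q.comap (algebraMap A B)).map (algebraMap A (Localization.AtPrime (q.comap (algebraMap A B))))).map eY.toRingHom =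
        IsLocalRing.maximalIdeal (Y.presheaf.stalk (f.base x)) := by
      rw [Localization.AtPrime.map_eq_maximalIdeal]
      exact IsLocalRing.map_ringEquiv_maximalIdeal eY
    rw [← h1, Ideal.map_map, Ideal.map_map, Ideal.map_map, RingHom.comp_assoc]
    exact congrArg (fun φ => Ideal.map φ _) hcomp
  exact IsRegularLocalRing.of_ringEquiv (R := EGA4.FibLocRing A B q)
    (Ideal.quotientEquiv _ _ eX hI)

end Groth.Agent.H06EGA17
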