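import Groth.Agent.H06EGA17.LocalModel
import Groth.Agent.H02CA.SkDescent
import Groth.Agent.H05EGA4.SerreCond
import Groth.Agent.S2608
import Groth.Agent.S2609
import Groth.Agent.H4Depth.Regular
import Groth.Agent.H8Props.FlatDepth

/-!
# Serre's conditions along smooth algebras (EGA IV 17.5.8)
-/

set_option autoImplicit false
set_option linter.style.haveILetI false
set_option backward.isDefEq.respectTransparency false
universe u

open IsLocalRing

namespace Groth.Agent.H06EGA17

theorem hasRk_of_ringEquiv {R R' : Type u} [CommRing R] [CommRing R'] (e : R ≃+* R') {k : ℕ}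
    (h : LocCoh.HasRk k R) : LocCoh.HasRk k R' := by
  intro p _ hp
  have hh : (p.comap e.toRingHom).height ≤ k := by
    rw [show (p.comap e.toRingHom).height = p.height from RingEquiv.height_comap e p]; exact hp
  haveI := h (p.comap e.toRingHom) hh
  let ψ := IsLocalization.ringEquivOfRingEquiv (M := (p.comap e.toRingHom).primeCompl) (T := p.primeCompl)
    (Localization.AtPrime (p.comap e.toRingHom)) (Localization.AtPrime p) e
    (by ext y
        simp only [Submonoid.mem_map, Ideal.mem_primeCompl_iff, Ideal.mem_comap]
        exact ⟨by rintro ⟨x, hx, rfl⟩; exact hx,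
          fun hy => ⟨e.symm y, by simpa using hy, by simp⟩⟩)
  exact IsRegularLocalRing.of_ringEquiv ψ

theorem hasSk_of_ringEquiv {R R' : Type u} [CommRing R] [CommRing R'] [IsNoetherianRing R] [IsNoetherianRing R']
    (e : R ≃+* R') {k : ℕ} (h : LocCoh.HasSk k R R) : LocCoh.HasSk k R' R' := by
  letI := e.symm.toRingHom.toAlgebra
  haveI : Module.FaithfullyFlat R' R := Module.FaithfullyFlat.of_linearEquiv R' R'
    (LinearEquiv.ofBijective (Algebra.linearMap R' R) e.symm.bijective).symm
  exact H02CA.SkDescent.hasSk_of_faithfullyFlat k R' R h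

variable (A B : Type u) [CommRing A] [CommRing B] [IsNoetherianRing A] [IsNoetherianRing B] [Algebra A B]
  [Algebra.Smooth A B] (q : Ideal B) [q.IsPrime] (n : ℕ)

theorem hasRk_atPrime_iff :
    LocCoh.HasRk n (Localization.AtPrime q) ↔ LocCoh.HasRk n (Localization.AtPrime (q.comap (algebraMap A B))) := by
  refine ⟨fun h => S2608.result n A B q h, fun h => S2609.result n A B (fun r _ P _ _ => ?_) q h⟩
  haveI := H05EGA4.isRegularLocalRing_fibLocRing_of_smooth A B r
  exact H05EGA4.isRegularLocalRing_localization (EGA4.FibLocRing A B r) P

theorem hasSk_atPrime_of_base (h : LocCoh.HasSk n (Localization.AtPrime (q.comap (algebraMap A B)))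
      (Localization.AtPrime (q.comap (algebraMap A B)))) :
    LocCoh.HasSk n (Localization.AtPrime q) (Localization.AtPrime q) := by
  rw [H02CA.SkDescent.hasSk_self_iff] at h ⊢
  intro P _
  let r := P.comap (algebraMap B (Localization.AtPrime q))
  have hrq : r ≤ q := (Ideal.comap_mono (le_maximalIdeal (Ideal.IsPrime.ne_top ‹_›))).trans
    (Localization.AtPrime.under_maximalIdeal (I := q)).le
  let p := r.comap (algebraMap A B)
  have : r.LiesOver p := ⟨rfl⟩
  letI := Localization.AtPrime.algebraOfLiesOver p r
  have : Module.Flat (Localization.AtPrime p) (Localization.AtPrime r) := inferInstance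
  have : IsLocalHom (algebraMap (Localization.AtPrime p) (Localization.AtPrime r)) := by
    rw [Localization.AtPrime.IsLiesOverAlgebra.algebraMap_eq]
    infer_instance
  -- the base
  have hpq : p ≤ q.comap (algebraMap A B) := Ideal.comap_mono hrq
  let P' := p.map (algebraMap A (Localization.AtPrime (q.comap (algebraMap A B))))
  have hdisj : Disjoint ((q.comap (algebraMap A B)).primeCompl : Set A) p :=
    Set.disjoint_left.2 fun z hz hzr => hz (hpq hzr)
  haveI : P'.IsPrime := IsLocalization.isPrime_of_isPrime_disjoint _ _ p inferInstance hdisj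
  have hA := h P'
  haveI := IsLocalization.isLocalization_isLocalization_atPrime_isLocalization (q.comap (algebraMap A B)).primeCompl
    (Localization.AtPrime P') P'
  haveI : IsLocalization p.primeCompl (Localization.AtPrime P') := by
    have hc : P'.comap (algebraMap A (Localization.AtPrime (q.comap (algebraMap A B)))) = p :=
      IsLocalization.under_map_of_isPrime_disjoint _ _ inferInstance hdisj
    convert (inferInstance : IsLocalization.AtPrime (Localization.AtPrime P')
      (P'.comap (algebraMap A (Localization.AtPrime (q.comap (algebraMap A B)))))) using 3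
    rw [hc]
  let eA := (IsLocalization.algEquiv p.primeCompl (Localization.AtPrime p) (Localization.AtPrime P')).toRingEquiv
  rw [← ringKrullDim_eq_of_ringEquiv eA, ← H05EGA4.depth_eq_of_ringEquiv eA] at hA
  -- the fibre
  have heq : (maximalIdeal (Localization.AtPrime p)).map (algebraMap (Localization.AtPrime p) (Localization.AtPrime r)) =
      p.map (algebraMap A (Localization.AtPrime r)) := by
    rw [← Localization.AtPrime.map_eq_maximalIdeal, Ideal.map_map, ← IsScalarTower.algebraMap_eq]
  haveI : IsRegularLocalRing (EGA4.FibLocRing A B r) := H05EGA4.isRegularLocalRing_fibLocRing_of_smooth A B r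
  set C := Localization.AtPrime r ⧸ (maximalIdeal (Localization.AtPrime p)).map
    (algebraMap (Localization.AtPrime p) (Localization.AtPrime r))
  haveI : IsRegularLocalRing C := IsRegularLocalRing.of_ringEquiv (Ideal.quotEquivOfEq heq).symm
  have hC := H4Depth.depth_self_eq_ringKrullDim_of_regular C
  have h1 := H8Props.FlatDepth.ringKrullDim_eq_add (Localization.AtPrime p) (Localization.AtPrime r)
  have h2 := H8Props.FlatDepth.depth_eq_add (Localization.AtPrime p) (Localization.AtPrime r)
  haveI := IsLocalization.isLocalization_isLocalization_atPrime_isLocalization q.primeCompl (Localization.AtPrime P) P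
  let eB := (IsLocalization.algEquiv r.primeCompl (Localization.AtPrime r) (Localization.AtPrime P)).toRingEquiv
  rw [← ringKrullDim_eq_of_ringEquiv eB, ← H05EGA4.depth_eq_of_ringEquiv eB, h1, h2, WithBot.coe_add]
  rw [hC]
  rcases le_total (n : WithBot ℕ∞) (ringKrullDim (Localization.AtPrime p)) with h3 | h3
  · rw [min_eq_left h3] at hA
    exact (min_le_left _ _).trans (hA.trans (le_add_of_nonneg_right ringKrullDim_nonneg_of_nontrivial))
  · rw [min_eq_right h3] at hA
    exact (min_le_right _ _).trans (add_le_add_left hA _)

end Groth.Agent.H06EGA17
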